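import Cfsg.Agent.Lib.SporOut.Co3Elts
import Cfsg.Agent.Lib.SporOut.Co3FiveData
import Cfsg.Agent.Lib.PermOut.Mult

/-! # Kernel checks for the multiplier of the Conway group -/

set_option autoImplicit false
set_option maxRecDepth 1000000
set_option maxHeartbeats 0
set_option Elab.async false

namespace Cfsg.Agent.Lib.SporOut

open Cfsg.Agent.Lib.PermOut

theorem co3Five_all : co3MultFive.allOK = true := by decide +kernel

theorem co3Five_pool : multPoolOK 552 co3MultFive (slpAll co3Gens co3Slp) co3GensFive co3ConjFive [0, 1, 2, 3, 4, 5] = true := by
  decide +kernel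

theorem co3Five_rel : multRelOK 552 10 co3MultFive co3GensFive = true := by decide +kernel

theorem co3Five_fus : multFusOK 552 10 co3MultFive co3GensFive co3ConjFive = true := by decide +kernel

theorem co3Five_key : multKeyOK 10 co3MultFive co3GensFive [0, 1, 2, 3, 4, 5] co3SortedFive = true := by decide +kernel

end Cfsg.Agent.Lib.SporOut
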