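import Cfsg.Agent.Lib.SporOut.Co3Elts
import Cfsg.Agent.Lib.SporOut.Co3ThreeData
import Cfsg.Agent.Lib.PermOut.Mult

/-! # Kernel checks for the multiplier of the Conway group -/

set_option autoImplicit false
set_option maxRecDepth 1000000
set_option maxHeartbeats 0
set_option Elab.async false

namespace Cfsg.Agent.Lib.SporOut

open Cfsg.Agent.Lib.PermOut

theorem co3Three_closed0 : closedPart co3MultThree 0 250 = true := by decide +kernel

theorem co3Three_closed1 : closedPart co3MultThree 250 500 = true := by decide +kernel

theorem co3Three_closed2 : closedPart co3MultThree 500 750 = true := by decide +kernel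

theorem co3Three_closed3 : closedPart co3MultThree 750 1000 = true := by decide +kernel

theorem co3Three_closed4 : closedPart co3MultThree 1000 1250 = true := by decide +kernel

theorem co3Three_closed5 : closedPart co3MultThree 1250 1500 = true := by decide +kernel

theorem co3Three_closed6 : closedPart co3MultThree 1500 1750 = true := by decide +kernel

theorem co3Three_closed7 : closedPart co3MultThree 1750 2000 = true := by decide +kernel

theorem co3Three_closed8 : closedPart co3MultThree 2000 2187 = true := by decide +kernel

theorem co3Three_restOK :
    (co3MultThree.ordOK && co3MultThree.eqs.all co3MultThree.eqOK && co3MultThree.linOK co3MultThree.table) = true := by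
  decide +kernel

theorem co3Three_all : co3MultThree.allOK = true := by
  refine allOK_of_parts _ 250 (by norm_num) (fun j hj => ?_) co3Three_restOK
  rw [show co3MultThree.p ^ co3MultThree.n = 2187 by decide +kernel] at hj ⊢
  have hm : j < 9 := by omega
  interval_cases j
  · exact co3Three_closed0
  · exact co3Three_closed1
  · exact co3Three_closed2
  · exact co3Three_closed3
  · exact co3Three_closed4
  · exact co3Three_closed5
  · exact co3Three_closed6
  · exact co3Three_closed7
  · exact co3Three_closed8

theorem co3Three_pool : multPoolOK 552 co3MultThree (slpAll co3Gens co3Slp) co3GensThree co3ConjThree [0, 1, 2, 3, 4, 5] = true := by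
  decide +kernel

theorem co3Three_rel : multRelOK 552 10 co3MultThree co3GensThree = true := by decide +kernel

theorem co3Three_fus : multFusOK 552 10 co3MultThree co3GensThree co3ConjThree = true := by decide +kernel

theorem co3Three_key : multKeyOK 10 co3MultThree co3GensThree [0, 1, 2, 3, 4, 5] co3SortedThree = true := by decide +kernel

end Cfsg.Agent.Lib.SporOut
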