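import Cfsg.Agent.Lib.SporOut.Co3Elts
import Cfsg.Agent.Lib.SporOut.Co3TwoData
import Cfsg.Agent.Lib.PermOut.Mult

/-! # Kernel checks for the multiplier of the Conway group -/

set_option autoImplicit false
set_option maxRecDepth 1000000
set_option maxHeartbeats 0
set_option Elab.async false

namespace Cfsg.Agent.Lib.SporOut

open Cfsg.Agent.Lib.PermOut

theorem co3Two_closed0 : closedPart co3MultTwo 0 250 = true := by decide +kernel

theorem co3Two_closed1 : closedPart co3MultTwo 250 500 = true := by decide +kernel

theorem co3Two_closed2 : closedPart co3MultTwo 500 750 = true := by decide +kernel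

theorem co3Two_closed3 : closedPart co3MultTwo 750 1000 = true := by decide +kernel

theorem co3Two_closed4 : closedPart co3MultTwo 1000 1024 = true := by decide +kernel

theorem co3Two_restOK :
    (co3MultTwo.ordOK && co3MultTwo.eqs.all co3MultTwo.eqOK && co3MultTwo.linOK co3MultTwo.table) = true := by
  decide +kernel

theorem co3Two_all : co3MultTwo.allOK = true := by
  refine allOK_of_parts _ 250 (by norm_num) (fun j hj => ?_) co3Two_restOK
  rw [show co3MultTwo.p ^ co3MultTwo.n = 1024 by decide +kernel] at hj ⊢
  have hm : j < 5 := by omega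
  interval_cases j
  · exact co3Two_closed0
  · exact co3Two_closed1
  · exact co3Two_closed2
  · exact co3Two_closed3
  · exact co3Two_closed4

theorem co3Two_pool : multPoolOK 552 co3MultTwo (slpAll co3Gens co3Slp) co3GensTwo co3ConjTwo [0, 1, 2, 3, 4, 5] = true := by
  decide +kernel

theorem co3Two_rel : multRelOK 552 10 co3MultTwo co3GensTwo = true := by decide +kernel

theorem co3Two_fus : multFusOK 552 10 co3MultTwo co3GensTwo co3ConjTwo = true := by decide +kernel

theorem co3Two_key : multKeyOK 10 co3MultTwo co3GensTwo [0, 1, 2, 3, 4, 5] co3SortedTwo = true := by decide +kernel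

end Cfsg.Agent.Lib.SporOut
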