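import Cfsg.Agent.Lib.SporOut.Co3EltsChecks
import Cfsg.Agent.Lib.SporOut.Co3FiveChecks
import Cfsg.Agent.Lib.SporOut.Co3ThreeChecks
import Cfsg.Agent.Lib.SporOut.Co3TwoChecks
import Cfsg.Agent.Lib.SchurMult.CyclicBound
import Cfsg.Agent.Lib.Leech.SporIso

/-! # The multiplier of the third Conway group is trivial -/

set_option autoImplicit false

namespace Cfsg.Agent.Lib.SporOut

open Cfsg Cfsg.Agent.Lib.Leech Golay
open scoped Pointwise

theorem Co3_eq : Spor.Co3 = (MulAction.stabilizer ↥Co0 vFive).map Co0.subtype := by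
  ext g
  constructor
  · rintro ⟨hg, h1⟩
    rw [leechV_eq] at h1
    exact ⟨⟨g, hg⟩, (smul_neg_iff ⟨g, hg⟩ _).1 h1, rfl⟩
  · rintro ⟨⟨g', hg⟩, h1, rfl⟩
    refine ⟨hg, ?_⟩
    rw [leechV_eq]; exact (smul_neg_iff ⟨g', hg⟩ _).2 h1

/-- The Conway group as a stabilizer. -/
noncomputable def co3Equiv : ↥(MulAction.stabilizer ↥Co0 vFive) ≃* ↥Spor.Co3 :=
  ((MulAction.stabilizer ↥Co0 vFive).equivMapOfInjective _ Co0.subtype_injective).trans
    (MulEquiv.subgroupCongr Co3_eq.symm)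

theorem fact_co3 {p e r : ℕ} (hp : p.Prime) (h : 495766656000 = p ^ e * r) (hr : ¬ p ∣ r) :
    (495766656000 : ℕ).factorization p = e := by
  rw [h, Nat.factorization_mul (pow_ne_zero _ hp.ne_zero) (by rintro rfl; simp at h), Finsupp.add_apply,
    Nat.Prime.factorization_pow hp, Nat.factorization_eq_zero_of_not_dvd hr]
  simp

theorem co3_mult : Cfsg.HasCyclicSchurMultiplier ↥Cfsg.Spor.Co3 1 := by
  haveI := co3_simple.1
  obtain ⟨φ, hφ, hmem⟩ := exists_orbit_rep (gs := Co3Orb.gens) (T := Co3Orb.pairTree)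
    (start := Co3Orb.pairStart) (n := 552) (w := 10) (perms := co3Gens) pair_orbit_ok co3_perms co3_nontrivial
    (MulAction.stabilizer ↥Co0 vFive) (fun g hg => gens_fix g hg) (funext start_facts.2.1)
    (by rw [start_facts.2.2.2.1]; norm_num) (dotSet vFive 24) ncard_dotSet_five.1
    ⟨start_facts.2.2.2.1, start_facts.2.2.2.2.1⟩ (fun k hk y hy => smul_dotSet k hk hy)
  have hcard : Nat.card φ.range = 495766656000 :=
    (Nat.card_congr (MonoidHom.ofInjective hφ).toEquiv).symm.trans co3_simple.2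
  haveI : Finite φ.range := inferInstance
  have hpool : ∀ c ∈ PermOut.slpAll co3Gens co3Slp, PermOut.okP 552 10 c = true ∧ PermOut.perm 552 10 c ∈ φ.range := by
    refine PermOut.slp_mem co3_slp fun q hq => ⟨?_, hmem q hq⟩
    have h := co3_perms
    simp only [permsOK, Bool.and_eq_true, List.all_eq_true] at h
    exact h.1.2 q hq
  let e : ↥Cfsg.Spor.Co3 ≃* ↥φ.range := co3Equiv.symm.trans (MonoidHom.ofInjective hφ)
  haveI : Finite ↥Cfsg.Spor.Co3 := Finite.of_equiv _ e.symm.toEquiv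
  refine SchurMult.hasTrivial_of_not_dvd fun Δ _ _ τ hτ r hr hd => ?_
  have hker : (e.toMonoidHom.comp τ).ker = τ.ker := by ext x; simp
  have hσ : Cfsg.IsStemExtension (e.toMonoidHom.comp τ) :=
    ⟨e.surjective.comp hτ.1, hker ▸ hτ.2.1, hker ▸ hτ.2.2⟩
  rw [← hker] at hd
  haveI := Fact.mk hr
  by_cases h2 : r = 2
  · subst h2
    exact absurd (PermOut.mult_bound (p := 2) (k := 1) hσ rfl co3Two_all hpool co3Two_pool co3Two_rel co3Two_fus co3Two_key
      (by rw [hcard]; exact fact_co3 (e := 10) (r := 484147125) Nat.prime_two (by norm_num) (by norm_num))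
      (by rwa [pow_one])) (by show ¬ 2 ^ 1 ∣ 1; norm_num)
  by_cases h3 : r = 3
  · subst h3
    exact absurd (PermOut.mult_bound (p := 3) (k := 1) hσ rfl co3Three_all hpool co3Three_pool co3Three_rel co3Three_fus co3Three_key
      (by rw [hcard]; exact fact_co3 (e := 7) (r := 226688000) Nat.prime_three (by norm_num) (by norm_num))
      (by rwa [pow_one])) (by show ¬ 3 ^ 1 ∣ 1; norm_num)
  by_cases h5 : r = 5
  · subst h5
    exact absurd (PermOut.mult_bound (p := 5) (k := 1) hσ rfl co3Five_all hpool co3Five_pool co3Five_rel co3Five_fus co3Five_key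
      (by rw [hcard]; exact fact_co3 (e := 3) (r := 3966133248) Nat.prime_five (by norm_num) (by norm_num))
      (by rwa [pow_one])) (by show ¬ 5 ^ 1 ∣ 1; norm_num)
  refine SchurMult.not_dvd_ker_of_sq hσ (fun hdd => ?_) hd
  rw [hcard] at hdd
  have hco : Nat.Coprime (r ^ 2) (2 ^ 10 * 3 ^ 7 * 5 ^ 3) :=
    ((((Nat.coprime_primes hr Nat.prime_two).2 h2).pow 2 10).mul_right
      (((Nat.coprime_primes hr Nat.prime_three).2 h3).pow 2 7)).mul_right
      (((Nat.coprime_primes hr Nat.prime_five).2 h5).pow 2 3)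
  have h' : r ^ 2 ∣ 1771 := hco.dvd_of_dvd_mul_left (show r ^ 2 ∣ (2 ^ 10 * 3 ^ 7 * 5 ^ 3) * 1771 from hdd)
  have hle : r ≤ 42 := by
    by_contra hc
    have := Nat.le_of_dvd (by norm_num) h'
    have : 43 ^ 2 ≤ r ^ 2 := Nat.pow_le_pow_left (by omega) 2
    omega
  interval_cases r <;> norm_num at *

end Cfsg.Agent.Lib.SporOut
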