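import Cfsg.Agent.Lib.SporOut.Co3Data

/-! # The second chain for `Co₃` -/

set_option autoImplicit false
set_option maxRecDepth 1000000
set_option maxHeartbeats 0
set_option Elab.async false

namespace Cfsg.Agent.Lib.SporOut

open Cfsg.Agent.Lib.PermOut

theorem co3_chainY : chainOK co3Cert.n co3Cert.w co3Cert.bsY co3Cert.tsY [] = true := by
  decide +kernel

end Cfsg.Agent.Lib.SporOut
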