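import Cfsg.Agent.Lib.SporOut.Co3Data

/-! # Small checks and the first chain for `Co₃` -/

set_option autoImplicit false
set_option maxRecDepth 1000000
set_option maxHeartbeats 0
set_option Elab.async false

namespace Cfsg.Agent.Lib.SporOut

open Cfsg.Agent.Lib.PermOut

theorem co3_rel : co3Cert.relTriv = true := by
  decide +kernel

theorem co3_res : co3Cert.resTriv = true := by
  decide +kernel

theorem co3_planX : co3Cert.planOK [co3Cert.x] co3Cert.bsX co3Cert.planX = true := by
  decide +kernel

theorem co3_planY : co3Cert.planOK co3Cert.y co3Cert.bsY co3Cert.planY = true := by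
  decide +kernel

theorem co3_chainX : chainOK co3Cert.n co3Cert.w co3Cert.bsX co3Cert.tsX [] = true := by
  decide +kernel

end Cfsg.Agent.Lib.SporOut
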