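import Cfsg.Agent.Lib.SporOut.Co3Data

/-! # A search for `Co₃` -/

set_option autoImplicit false
set_option maxRecDepth 1000000
set_option maxHeartbeats 0
set_option Elab.async false

namespace Cfsg.Agent.Lib.SporOut

open Cfsg.Agent.Lib.PermOut

theorem co3_goodN_0 : search (co3Cert.okC co3Cert.y co3Cert.planY) co3Cert.goodN co3Cert.w (co3CertTY0_0 :: [co3CertTY1, co3CertTY2, co3CertTY3, co3CertTY4, co3CertTY5, co3CertTY6]) 0 [] = true := by
  decide +kernel

theorem co3_goodN_1 : search (co3Cert.okC co3Cert.y co3Cert.planY) co3Cert.goodN co3Cert.w (co3CertTY0_1 :: [co3CertTY1, co3CertTY2, co3CertTY3, co3CertTY4, co3CertTY5, co3CertTY6]) 0 [] = true := by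
  decide +kernel

theorem co3_goodN_2 : search (co3Cert.okC co3Cert.y co3Cert.planY) co3Cert.goodN co3Cert.w (co3CertTY0_2 :: [co3CertTY1, co3CertTY2, co3CertTY3, co3CertTY4, co3CertTY5, co3CertTY6]) 0 [] = true := by
  decide +kernel

theorem co3_goodN_3 : search (co3Cert.okC co3Cert.y co3Cert.planY) co3Cert.goodN co3Cert.w (co3CertTY0_3 :: [co3CertTY1, co3CertTY2, co3CertTY3, co3CertTY4, co3CertTY5, co3CertTY6]) 0 [] = true := by
  decide +kernel

theorem co3_goodN_4 : search (co3Cert.okC co3Cert.y co3Cert.planY) co3Cert.goodN co3Cert.w (co3CertTY0_4 :: [co3CertTY1, co3CertTY2, co3CertTY3, co3CertTY4, co3CertTY5, co3CertTY6]) 0 [] = true := by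
  decide +kernel

theorem co3_goodN_5 : search (co3Cert.okC co3Cert.y co3Cert.planY) co3Cert.goodN co3Cert.w (co3CertTY0_5 :: [co3CertTY1, co3CertTY2, co3CertTY3, co3CertTY4, co3CertTY5, co3CertTY6]) 0 [] = true := by
  decide +kernel

theorem co3_goodN_6 : search (co3Cert.okC co3Cert.y co3Cert.planY) co3Cert.goodN co3Cert.w (co3CertTY0_6 :: [co3CertTY1, co3CertTY2, co3CertTY3, co3CertTY4, co3CertTY5, co3CertTY6]) 0 [] = true := by
  decide +kernel

theorem co3_goodN_7 : search (co3Cert.okC co3Cert.y co3Cert.planY) co3Cert.goodN co3Cert.w (co3CertTY0_7 :: [co3CertTY1, co3CertTY2, co3CertTY3, co3CertTY4, co3CertTY5, co3CertTY6]) 0 [] = true := by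
  decide +kernel

theorem co3_goodN_8 : search (co3Cert.okC co3Cert.y co3Cert.planY) co3Cert.goodN co3Cert.w (co3CertTY0_8 :: [co3CertTY1, co3CertTY2, co3CertTY3, co3CertTY4, co3CertTY5, co3CertTY6]) 0 [] = true := by
  decide +kernel

theorem co3_goodN_9 : search (co3Cert.okC co3Cert.y co3Cert.planY) co3Cert.goodN co3Cert.w (co3CertTY0_9 :: [co3CertTY1, co3CertTY2, co3CertTY3, co3CertTY4, co3CertTY5, co3CertTY6]) 0 [] = true := by
  decide +kernel

theorem co3_goodN_10 : search (co3Cert.okC co3Cert.y co3Cert.planY) co3Cert.goodN co3Cert.w (co3CertTY0_10 :: [co3CertTY1, co3CertTY2, co3CertTY3, co3CertTY4, co3CertTY5, co3CertTY6]) 0 [] = true := by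
  decide +kernel

theorem co3_goodN_11 : search (co3Cert.okC co3Cert.y co3Cert.planY) co3Cert.goodN co3Cert.w (co3CertTY0_11 :: [co3CertTY1, co3CertTY2, co3CertTY3, co3CertTY4, co3CertTY5, co3CertTY6]) 0 [] = true := by
  decide +kernel

theorem co3_goodN_12 : search (co3Cert.okC co3Cert.y co3Cert.planY) co3Cert.goodN co3Cert.w (co3CertTY0_12 :: [co3CertTY1, co3CertTY2, co3CertTY3, co3CertTY4, co3CertTY5, co3CertTY6]) 0 [] = true := by
  decide +kernel

theorem co3_goodN_13 : search (co3Cert.okC co3Cert.y co3Cert.planY) co3Cert.goodN co3Cert.w (co3CertTY0_13 :: [co3CertTY1, co3CertTY2, co3CertTY3, co3CertTY4, co3CertTY5, co3CertTY6]) 0 [] = true := by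
  decide +kernel

end Cfsg.Agent.Lib.SporOut
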