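import Cfsg.Agent.Lib.SporOut.Co3Data

/-! # A search for `Co₃` -/

set_option autoImplicit false
set_option maxRecDepth 1000000
set_option maxHeartbeats 0
set_option Elab.async false

namespace Cfsg.Agent.Lib.SporOut

open Cfsg.Agent.Lib.PermOut

theorem co3_goodX_0 : search (co3Cert.okC [co3Cert.x] co3Cert.planX) co3Cert.goodX co3Cert.w (co3CertTX0_0 :: [co3CertTX1, co3CertTX2, co3CertTX3, co3CertTX4, co3CertTX5, co3CertTX6, co3CertTX7]) 0 [] = true := by
  decide +kernel

theorem co3_goodX_1 : search (co3Cert.okC [co3Cert.x] co3Cert.planX) co3Cert.goodX co3Cert.w (co3CertTX0_1 :: [co3CertTX1, co3CertTX2, co3CertTX3, co3CertTX4, co3CertTX5, co3CertTX6, co3CertTX7]) 0 [] = true := by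
  decide +kernel

theorem co3_goodX_2 : search (co3Cert.okC [co3Cert.x] co3Cert.planX) co3Cert.goodX co3Cert.w (co3CertTX0_2 :: [co3CertTX1, co3CertTX2, co3CertTX3, co3CertTX4, co3CertTX5, co3CertTX6, co3CertTX7]) 0 [] = true := by
  decide +kernel

theorem co3_goodX_3 : search (co3Cert.okC [co3Cert.x] co3Cert.planX) co3Cert.goodX co3Cert.w (co3CertTX0_3 :: [co3CertTX1, co3CertTX2, co3CertTX3, co3CertTX4, co3CertTX5, co3CertTX6, co3CertTX7]) 0 [] = true := by
  decide +kernel

theorem co3_goodX_4 : search (co3Cert.okC [co3Cert.x] co3Cert.planX) co3Cert.goodX co3Cert.w (co3CertTX0_4 :: [co3CertTX1, co3CertTX2, co3CertTX3, co3CertTX4, co3CertTX5, co3CertTX6, co3CertTX7]) 0 [] = true := by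
  decide +kernel

theorem co3_goodX_5 : search (co3Cert.okC [co3Cert.x] co3Cert.planX) co3Cert.goodX co3Cert.w (co3CertTX0_5 :: [co3CertTX1, co3CertTX2, co3CertTX3, co3CertTX4, co3CertTX5, co3CertTX6, co3CertTX7]) 0 [] = true := by
  decide +kernel

theorem co3_goodX_6 : search (co3Cert.okC [co3Cert.x] co3Cert.planX) co3Cert.goodX co3Cert.w (co3CertTX0_6 :: [co3CertTX1, co3CertTX2, co3CertTX3, co3CertTX4, co3CertTX5, co3CertTX6, co3CertTX7]) 0 [] = true := by
  decide +kernel

theorem co3_goodX_7 : search (co3Cert.okC [co3Cert.x] co3Cert.planX) co3Cert.goodX co3Cert.w (co3CertTX0_7 :: [co3CertTX1, co3CertTX2, co3CertTX3, co3CertTX4, co3CertTX5, co3CertTX6, co3CertTX7]) 0 [] = true := by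
  decide +kernel

theorem co3_goodX_8 : search (co3Cert.okC [co3Cert.x] co3Cert.planX) co3Cert.goodX co3Cert.w (co3CertTX0_8 :: [co3CertTX1, co3CertTX2, co3CertTX3, co3CertTX4, co3CertTX5, co3CertTX6, co3CertTX7]) 0 [] = true := by
  decide +kernel

theorem co3_goodX_9 : search (co3Cert.okC [co3Cert.x] co3Cert.planX) co3Cert.goodX co3Cert.w (co3CertTX0_9 :: [co3CertTX1, co3CertTX2, co3CertTX3, co3CertTX4, co3CertTX5, co3CertTX6, co3CertTX7]) 0 [] = true := by
  decide +kernel

theorem co3_goodX_10 : search (co3Cert.okC [co3Cert.x] co3Cert.planX) co3Cert.goodX co3Cert.w (co3CertTX0_10 :: [co3CertTX1, co3CertTX2, co3CertTX3, co3CertTX4, co3CertTX5, co3CertTX6, co3CertTX7]) 0 [] = true := by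
  decide +kernel

theorem co3_goodX_11 : search (co3Cert.okC [co3Cert.x] co3Cert.planX) co3Cert.goodX co3Cert.w (co3CertTX0_11 :: [co3CertTX1, co3CertTX2, co3CertTX3, co3CertTX4, co3CertTX5, co3CertTX6, co3CertTX7]) 0 [] = true := by
  decide +kernel

theorem co3_goodX_12 : search (co3Cert.okC [co3Cert.x] co3Cert.planX) co3Cert.goodX co3Cert.w (co3CertTX0_12 :: [co3CertTX1, co3CertTX2, co3CertTX3, co3CertTX4, co3CertTX5, co3CertTX6, co3CertTX7]) 0 [] = true := by
  decide +kernel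

theorem co3_goodX_13 : search (co3Cert.okC [co3Cert.x] co3Cert.planX) co3Cert.goodX co3Cert.w (co3CertTX0_13 :: [co3CertTX1, co3CertTX2, co3CertTX3, co3CertTX4, co3CertTX5, co3CertTX6, co3CertTX7]) 0 [] = true := by
  decide +kernel

end Cfsg.Agent.Lib.SporOut
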