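import Cfsg.Agent.Lib.SporOut.Co3Data

/-! # Transversal entries of chain X for `Co₃` -/

set_option autoImplicit false
set_option maxRecDepth 1000000
set_option maxHeartbeats 0
set_option Elab.async false

namespace Cfsg.Agent.Lib.SporOut

open Cfsg.Agent.Lib.PermOut

theorem co3_transX0_0 : co3CertTX0_0.all co3Cert.subAll.contains = true := by
  decide +kernel

theorem co3_transX0_1 : co3CertTX0_1.all co3Cert.subAll.contains = true := by
  decide +kernel

theorem co3_transX0_2 : co3CertTX0_2.all co3Cert.subAll.contains = true := by
  decide +kernel

theorem co3_transX0_3 : co3CertTX0_3.all co3Cert.subAll.contains = true := by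
  decide +kernel

theorem co3_transX0_4 : co3CertTX0_4.all co3Cert.subAll.contains = true := by
  decide +kernel

theorem co3_transX0_5 : co3CertTX0_5.all co3Cert.subAll.contains = true := by
  decide +kernel

theorem co3_transX0_6 : co3CertTX0_6.all co3Cert.subAll.contains = true := by
  decide +kernel

theorem co3_transX0_7 : co3CertTX0_7.all co3Cert.subAll.contains = true := by
  decide +kernel

theorem co3_transX0_8 : co3CertTX0_8.all co3Cert.subAll.contains = true := by
  decide +kernel

theorem co3_transX0_9 : co3CertTX0_9.all co3Cert.subAll.contains = true := by
  decide +kernel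

theorem co3_transX0_10 : co3CertTX0_10.all co3Cert.subAll.contains = true := by
  decide +kernel

theorem co3_transX0_11 : co3CertTX0_11.all co3Cert.subAll.contains = true := by
  decide +kernel

theorem co3_transX0_12 : co3CertTX0_12.all co3Cert.subAll.contains = true := by
  decide +kernel

theorem co3_transX0_13 : co3CertTX0_13.all co3Cert.subAll.contains = true := by
  decide +kernel

theorem co3_transX1_0 : co3CertTX1_0.all co3Cert.subAll.contains = true := by
  decide +kernel

theorem co3_transX1_1 : co3CertTX1_1.all co3Cert.subAll.contains = true := by
  decide +kernel

theorem co3_transX1_2 : co3CertTX1_2.all co3Cert.subAll.contains = true := by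
  decide +kernel

theorem co3_transX1_3 : co3CertTX1_3.all co3Cert.subAll.contains = true := by
  decide +kernel

theorem co3_transX1_4 : co3CertTX1_4.all co3Cert.subAll.contains = true := by
  decide +kernel

theorem co3_transX1_5 : co3CertTX1_5.all co3Cert.subAll.contains = true := by
  decide +kernel

theorem co3_transX1_6 : co3CertTX1_6.all co3Cert.subAll.contains = true := by
  decide +kernel

theorem co3_transX2_0 : co3CertTX2_0.all co3Cert.subAll.contains = true := by
  decide +kernel

theorem co3_transX2_1 : co3CertTX2_1.all co3Cert.subAll.contains = true := by
  decide +kernel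

theorem co3_transX2_2 : co3CertTX2_2.all co3Cert.subAll.contains = true := by
  decide +kernel

theorem co3_transX3_0 : co3CertTX3_0.all co3Cert.subAll.contains = true := by
  decide +kernel

theorem co3_transX3_1 : co3CertTX3_1.all co3Cert.subAll.contains = true := by
  decide +kernel

theorem co3_transX3_2 : co3CertTX3_2.all co3Cert.subAll.contains = true := by
  decide +kernel

theorem co3_transX4_0 : co3CertTX4_0.all co3Cert.subAll.contains = true := by
  decide +kernel

theorem co3_transX4_1 : co3CertTX4_1.all co3Cert.subAll.contains = true := by
  decide +kernel

theorem co3_transX5_0 : co3CertTX5_0.all co3Cert.subAll.contains = true := by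
  decide +kernel

theorem co3_transX6_0 : co3CertTX6_0.all co3Cert.subAll.contains = true := by
  decide +kernel

theorem co3_transX7_0 : co3CertTX7_0.all co3Cert.subAll.contains = true := by
  decide +kernel

end Cfsg.Agent.Lib.SporOut
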