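import Cfsg.Agent.Lib.SporOut.Co3Data

/-! # Transversal entries of chain Y for `Co₃` -/

set_option autoImplicit false
set_option maxRecDepth 1000000
set_option maxHeartbeats 0
set_option Elab.async false

namespace Cfsg.Agent.Lib.SporOut

open Cfsg.Agent.Lib.PermOut

theorem co3_transY0_0 : co3CertTY0_0.all co3Cert.subAll.contains = true := by
  decide +kernel

theorem co3_transY0_1 : co3CertTY0_1.all co3Cert.subAll.contains = true := by
  decide +kernel

theorem co3_transY0_2 : co3CertTY0_2.all co3Cert.subAll.contains = true := by
  decide +kernel

theorem co3_transY0_3 : co3CertTY0_3.all co3Cert.subAll.contains = true := by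
  decide +kernel

theorem co3_transY0_4 : co3CertTY0_4.all co3Cert.subAll.contains = true := by
  decide +kernel

theorem co3_transY0_5 : co3CertTY0_5.all co3Cert.subAll.contains = true := by
  decide +kernel

theorem co3_transY0_6 : co3CertTY0_6.all co3Cert.subAll.contains = true := by
  decide +kernel

theorem co3_transY0_7 : co3CertTY0_7.all co3Cert.subAll.contains = true := by
  decide +kernel

theorem co3_transY0_8 : co3CertTY0_8.all co3Cert.subAll.contains = true := by
  decide +kernel

theorem co3_transY0_9 : co3CertTY0_9.all co3Cert.subAll.contains = true := by
  decide +kernel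

theorem co3_transY0_10 : co3CertTY0_10.all co3Cert.subAll.contains = true := by
  decide +kernel

theorem co3_transY0_11 : co3CertTY0_11.all co3Cert.subAll.contains = true := by
  decide +kernel

theorem co3_transY0_12 : co3CertTY0_12.all co3Cert.subAll.contains = true := by
  decide +kernel

theorem co3_transY0_13 : co3CertTY0_13.all co3Cert.subAll.contains = true := by
  decide +kernel

theorem co3_transY1_0 : co3CertTY1_0.all co3Cert.subAll.contains = true := by
  decide +kernel

theorem co3_transY1_1 : co3CertTY1_1.all co3Cert.subAll.contains = true := by
  decide +kernel

theorem co3_transY1_2 : co3CertTY1_2.all co3Cert.subAll.contains = true := by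
  decide +kernel

theorem co3_transY1_3 : co3CertTY1_3.all co3Cert.subAll.contains = true := by
  decide +kernel

theorem co3_transY1_4 : co3CertTY1_4.all co3Cert.subAll.contains = true := by
  decide +kernel

theorem co3_transY1_5 : co3CertTY1_5.all co3Cert.subAll.contains = true := by
  decide +kernel

theorem co3_transY1_6 : co3CertTY1_6.all co3Cert.subAll.contains = true := by
  decide +kernel

theorem co3_transY2_0 : co3CertTY2_0.all co3Cert.subAll.contains = true := by
  decide +kernel

theorem co3_transY2_1 : co3CertTY2_1.all co3Cert.subAll.contains = true := by
  decide +kernel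

theorem co3_transY2_2 : co3CertTY2_2.all co3Cert.subAll.contains = true := by
  decide +kernel

theorem co3_transY2_3 : co3CertTY2_3.all co3Cert.subAll.contains = true := by
  decide +kernel

theorem co3_transY2_4 : co3CertTY2_4.all co3Cert.subAll.contains = true := by
  decide +kernel

theorem co3_transY3_0 : co3CertTY3_0.all co3Cert.subAll.contains = true := by
  decide +kernel

theorem co3_transY3_1 : co3CertTY3_1.all co3Cert.subAll.contains = true := by
  decide +kernel

theorem co3_transY4_0 : co3CertTY4_0.all co3Cert.subAll.contains = true := by
  decide +kernel

theorem co3_transY5_0 : co3CertTY5_0.all co3Cert.subAll.contains = true := by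
  decide +kernel

theorem co3_transY6_0 : co3CertTY6_0.all co3Cert.subAll.contains = true := by
  decide +kernel

end Cfsg.Agent.Lib.SporOut
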