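import Cfsg.Agent.Lib.SporOut.Co3Slps
import Cfsg.Agent.Lib.SporOut.Co3Rel
import Cfsg.Agent.Lib.SporOut.Co3ChainY
import Cfsg.Agent.Lib.SporOut.Co3TransX
import Cfsg.Agent.Lib.SporOut.Co3TransY
import Cfsg.Agent.Lib.SporOut.Co3SearchX
import Cfsg.Agent.Lib.SporOut.Co3SearchS
import Cfsg.Agent.Lib.SporOut.Co3SearchN

/-! # All checks of the certificate for `Co₃` -/

set_option autoImplicit false
set_option maxRecDepth 1000000
set_option maxHeartbeats 0
set_option Elab.async false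

namespace Cfsg.Agent.Lib.SporOut

open Cfsg.Agent.Lib.PermOut

theorem search_append {ok : ℕ → (ℕ → ℕ) → Bool} {good : (ℕ → ℕ) → Bool} {w : ℕ} (A B : List ℕ) (r : List (List ℕ)) :
    search ok good w ((A ++ B) :: r) 0 [] = true ↔
      search ok good w (A :: r) 0 [] = true ∧ search ok good w (B :: r) 0 [] = true := by
  simp only [search, List.all_append, Bool.and_eq_true]

theorem co3_transX0 : co3CertTX0.all co3Cert.subAll.contains = true := by
  simp only [co3CertTX0, List.all_append, Bool.and_eq_true]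
  exact ⟨⟨⟨⟨⟨⟨⟨⟨⟨⟨⟨⟨⟨co3_transX0_0, co3_transX0_1⟩, co3_transX0_2⟩, co3_transX0_3⟩, co3_transX0_4⟩, co3_transX0_5⟩, co3_transX0_6⟩, co3_transX0_7⟩, co3_transX0_8⟩, co3_transX0_9⟩, co3_transX0_10⟩, co3_transX0_11⟩, co3_transX0_12⟩, co3_transX0_13⟩

theorem co3_transX1 : co3CertTX1.all co3Cert.subAll.contains = true := by
  simp only [co3CertTX1, List.all_append, Bool.and_eq_true]
  exact ⟨⟨⟨⟨⟨⟨co3_transX1_0, co3_transX1_1⟩, co3_transX1_2⟩, co3_transX1_3⟩, co3_transX1_4⟩, co3_transX1_5⟩, co3_transX1_6⟩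

theorem co3_transX2 : co3CertTX2.all co3Cert.subAll.contains = true := by
  simp only [co3CertTX2, List.all_append, Bool.and_eq_true]
  exact ⟨⟨co3_transX2_0, co3_transX2_1⟩, co3_transX2_2⟩

theorem co3_transX3 : co3CertTX3.all co3Cert.subAll.contains = true := by
  simp only [co3CertTX3, List.all_append, Bool.and_eq_true]
  exact ⟨⟨co3_transX3_0, co3_transX3_1⟩, co3_transX3_2⟩

theorem co3_transX4 : co3CertTX4.all co3Cert.subAll.contains = true := by
  simp only [co3CertTX4, List.all_append, Bool.and_eq_true]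
  exact ⟨co3_transX4_0, co3_transX4_1⟩

theorem co3_transX5 : co3CertTX5.all co3Cert.subAll.contains = true := by
  simp only [co3CertTX5, List.all_append, Bool.and_eq_true]
  exact co3_transX5_0

theorem co3_transX6 : co3CertTX6.all co3Cert.subAll.contains = true := by
  simp only [co3CertTX6, List.all_append, Bool.and_eq_true]
  exact co3_transX6_0

theorem co3_transX7 : co3CertTX7.all co3Cert.subAll.contains = true := by
  simp only [co3CertTX7, List.all_append, Bool.and_eq_true]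
  exact co3_transX7_0

theorem co3_transY0 : co3CertTY0.all co3Cert.subAll.contains = true := by
  simp only [co3CertTY0, List.all_append, Bool.and_eq_true]
  exact ⟨⟨⟨⟨⟨⟨⟨⟨⟨⟨⟨⟨⟨co3_transY0_0, co3_transY0_1⟩, co3_transY0_2⟩, co3_transY0_3⟩, co3_transY0_4⟩, co3_transY0_5⟩, co3_transY0_6⟩, co3_transY0_7⟩, co3_transY0_8⟩, co3_transY0_9⟩, co3_transY0_10⟩, co3_transY0_11⟩, co3_transY0_12⟩, co3_transY0_13⟩

theorem co3_transY1 : co3CertTY1.all co3Cert.subAll.contains = true := by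
  simp only [co3CertTY1, List.all_append, Bool.and_eq_true]
  exact ⟨⟨⟨⟨⟨⟨co3_transY1_0, co3_transY1_1⟩, co3_transY1_2⟩, co3_transY1_3⟩, co3_transY1_4⟩, co3_transY1_5⟩, co3_transY1_6⟩

theorem co3_transY2 : co3CertTY2.all co3Cert.subAll.contains = true := by
  simp only [co3CertTY2, List.all_append, Bool.and_eq_true]
  exact ⟨⟨⟨⟨co3_transY2_0, co3_transY2_1⟩, co3_transY2_2⟩, co3_transY2_3⟩, co3_transY2_4⟩

theorem co3_transY3 : co3CertTY3.all co3Cert.subAll.contains = true := by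
  simp only [co3CertTY3, List.all_append, Bool.and_eq_true]
  exact ⟨co3_transY3_0, co3_transY3_1⟩

theorem co3_transY4 : co3CertTY4.all co3Cert.subAll.contains = true := by
  simp only [co3CertTY4, List.all_append, Bool.and_eq_true]
  exact co3_transY4_0

theorem co3_transY5 : co3CertTY5.all co3Cert.subAll.contains = true := by
  simp only [co3CertTY5, List.all_append, Bool.and_eq_true]
  exact co3_transY5_0

theorem co3_transY6 : co3CertTY6.all co3Cert.subAll.contains = true := by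
  simp only [co3CertTY6, List.all_append, Bool.and_eq_true]
  exact co3_transY6_0

theorem co3_trans : co3Cert.transOK = true := by
  simp only [PermOut.Cert.transOK, co3Cert, List.all_cons, List.all_nil, Bool.and_eq_true, Bool.and_true]
  exact ⟨⟨co3_transX0, co3_transX1, co3_transX2, co3_transX3, co3_transX4, co3_transX5, co3_transX6, co3_transX7⟩, ⟨co3_transY0, co3_transY1, co3_transY2, co3_transY3, co3_transY4, co3_transY5, co3_transY6⟩⟩

theorem co3_goodX : search (co3Cert.okC [co3Cert.x] co3Cert.planX) co3Cert.goodX co3Cert.w co3Cert.tsX 0 [] = true := by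
  rw [show co3Cert.tsX = co3CertTX0 :: [co3CertTX1, co3CertTX2, co3CertTX3, co3CertTX4, co3CertTX5, co3CertTX6, co3CertTX7] from rfl, co3CertTX0]
  simp only [search_append]
  exact ⟨⟨⟨⟨⟨⟨⟨⟨⟨⟨⟨⟨⟨co3_goodX_0, co3_goodX_1⟩, co3_goodX_2⟩, co3_goodX_3⟩, co3_goodX_4⟩, co3_goodX_5⟩, co3_goodX_6⟩, co3_goodX_7⟩, co3_goodX_8⟩, co3_goodX_9⟩, co3_goodX_10⟩, co3_goodX_11⟩, co3_goodX_12⟩, co3_goodX_13⟩

theorem co3_goodS : search (co3Cert.okC co3Cert.y co3Cert.planY) co3Cert.goodS co3Cert.w co3Cert.tsY 0 [] = true := by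
  rw [show co3Cert.tsY = co3CertTY0 :: [co3CertTY1, co3CertTY2, co3CertTY3, co3CertTY4, co3CertTY5, co3CertTY6] from rfl, co3CertTY0]
  simp only [search_append]
  exact ⟨⟨⟨⟨⟨⟨⟨⟨⟨⟨⟨⟨⟨co3_goodS_0, co3_goodS_1⟩, co3_goodS_2⟩, co3_goodS_3⟩, co3_goodS_4⟩, co3_goodS_5⟩, co3_goodS_6⟩, co3_goodS_7⟩, co3_goodS_8⟩, co3_goodS_9⟩, co3_goodS_10⟩, co3_goodS_11⟩, co3_goodS_12⟩, co3_goodS_13⟩

theorem co3_goodN : search (co3Cert.okC co3Cert.y co3Cert.planY) co3Cert.goodN co3Cert.w co3Cert.tsY 0 [] = true := by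
  rw [show co3Cert.tsY = co3CertTY0 :: [co3CertTY1, co3CertTY2, co3CertTY3, co3CertTY4, co3CertTY5, co3CertTY6] from rfl, co3CertTY0]
  simp only [search_append]
  exact ⟨⟨⟨⟨⟨⟨⟨⟨⟨⟨⟨⟨⟨co3_goodN_0, co3_goodN_1⟩, co3_goodN_2⟩, co3_goodN_3⟩, co3_goodN_4⟩, co3_goodN_5⟩, co3_goodN_6⟩, co3_goodN_7⟩, co3_goodN_8⟩, co3_goodN_9⟩, co3_goodN_10⟩, co3_goodN_11⟩, co3_goodN_12⟩, co3_goodN_13⟩

theorem co3_checks : co3Cert.TrivChecks :=
  ⟨co3_slps, co3_trans, co3_chainX, co3_chainY, co3_rel, co3_res, co3_planX, co3_planY, co3_goodX, co3_goodS, co3_goodN⟩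

end Cfsg.Agent.Lib.SporOut
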