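import Cfsg.Agent.Lib.SporOut.Co3Elts
import Cfsg.Agent.Lib.Leech.PtsPerm

/-! # Kernel checks for the elements of the Conway group -/

set_option autoImplicit false
set_option maxRecDepth 1000000
set_option maxHeartbeats 0
set_option Elab.async false

namespace Cfsg.Agent.Lib.SporOut

open Cfsg.Agent.Lib.Leech Cfsg.Agent.Lib.PermOut

theorem co3_perms : permsOK 552 10 Co3Orb.gens Co3Orb.pairTree Co3Orb.pairStart co3Gens = true := by decide +kernel

theorem co3_nontrivial : (co3Gens.any fun q => (List.range 552).any fun i => im 10 q i != i) = true := by decide +kernel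

theorem co3_slp : slpOK 552 10 co3Gens co3Slp = true := by decide +kernel

end Cfsg.Agent.Lib.SporOut
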