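import Cfsg.Agent.Lib.SporOut.Co3Data
import Cfsg.Agent.Lib.Leech.PtsPerm
import Cfsg.Agent.Lib.Leech.Co3Checks

/-! # Kernel checks of the representation for `Co₃` -/

set_option autoImplicit false
set_option maxRecDepth 1000000
set_option maxHeartbeats 0
set_option Elab.async false

namespace Cfsg.Agent.Lib.SporOut

open Cfsg.Agent.Lib.Leech Cfsg.Agent.Lib.PermOut

theorem co3_perms : permsOK co3Cert.n co3Cert.w Co3Orb.gens Co3Orb.pairTree Co3Orb.pairStart co3CertGens = true := by
  decide +kernel

theorem co3_nontrivial :
    (co3CertGens.any fun q => (List.range co3Cert.n).any fun i => im co3Cert.w q i != i) = true := by decide +kernel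

theorem co3_order : co3Cert.orderOK 495766656000 = true := by decide +kernel

end Cfsg.Agent.Lib.SporOut
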