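import Cfsg.Agent.Lib.SporOut.Co3Data

/-! # Kernel checks of the programs for `Co₃` -/

set_option autoImplicit false
set_option maxRecDepth 1000000
set_option maxHeartbeats 0
set_option Elab.async false

namespace Cfsg.Agent.Lib.SporOut

open Cfsg.Agent.Lib.PermOut

theorem co3_slp2_5 : slpOK co3Cert.n co3Cert.w (((co3CertSlp2G0 ++ co3CertSlp2G1 ++ co3CertSlp2G2 ++ co3CertSlp2G3 ++ co3CertSlp2G4).map (fun e => e.2.2)).reverse ++ [co3Cert.x, co3Cert.h, co3Cert.s]) co3CertSlp2G5 = true := by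
  decide +kernel

theorem co3_slp2_6 : slpOK co3Cert.n co3Cert.w (((co3CertSlp2G0 ++ co3CertSlp2G1 ++ co3CertSlp2G2 ++ co3CertSlp2G3 ++ co3CertSlp2G4 ++ co3CertSlp2G5).map (fun e => e.2.2)).reverse ++ [co3Cert.x, co3Cert.h, co3Cert.s]) co3CertSlp2G6 = true := by
  decide +kernel

theorem co3_slp2_7 : slpOK co3Cert.n co3Cert.w (((co3CertSlp2G0 ++ co3CertSlp2G1 ++ co3CertSlp2G2 ++ co3CertSlp2G3 ++ co3CertSlp2G4 ++ co3CertSlp2G5 ++ co3CertSlp2G6).map (fun e => e.2.2)).reverse ++ [co3Cert.x, co3Cert.h, co3Cert.s]) co3CertSlp2G7 = true := by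
  decide +kernel

theorem co3_slp2_8 : slpOK co3Cert.n co3Cert.w (((co3CertSlp2G0 ++ co3CertSlp2G1 ++ co3CertSlp2G2 ++ co3CertSlp2G3 ++ co3CertSlp2G4 ++ co3CertSlp2G5 ++ co3CertSlp2G6 ++ co3CertSlp2G7).map (fun e => e.2.2)).reverse ++ [co3Cert.x, co3Cert.h, co3Cert.s]) co3CertSlp2G8 = true := by
  decide +kernel

end Cfsg.Agent.Lib.SporOut
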