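import Cfsg.Agent.Lib.SporOut.Co3Slp1a
import Cfsg.Agent.Lib.SporOut.Co3Slp2a
import Cfsg.Agent.Lib.SporOut.Co3Slp2b

/-! # The programs of `Co₃` are correct -/

set_option autoImplicit false
set_option maxRecDepth 1000000
set_option maxHeartbeats 0

namespace Cfsg.Agent.Lib.SporOut

open Cfsg.Agent.Lib.PermOut

theorem slpOK_append {n w : ℕ} : ∀ (a b : List (ℕ × ℕ × ℕ)) (acc : List ℕ), slpOK n w acc (a ++ b) =
    (slpOK n w acc a && slpOK n w ((a.map fun e => e.2.2).reverse ++ acc) b)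
  | [], b, acc => by simp [slpOK]
  | (x, y, p) :: a, b, acc => by
    simp only [List.cons_append, slpOK, slpOK_append a b, List.map_cons, List.reverse_cons, List.append_assoc,
      List.cons_append, List.nil_append, Bool.and_assoc]

theorem co3_slp_small : (co3Cert.gens.all (okP co3Cert.n co3Cert.w) &&
    [co3Cert.x, co3Cert.h, co3Cert.s].all fun c => (slpAll co3Cert.gens co3Cert.slp1).contains c) = true := by
  decide +kernel

theorem co3_slps : co3Cert.slpsOK = true := by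
  have h := co3_slp_small
  simp only [Bool.and_eq_true] at h
  have h1 : slpOK co3Cert.n co3Cert.w co3Cert.gens co3Cert.slp1 = true := by
    rw [show co3Cert.slp1 = co3CertSlp1G0 ++ co3CertSlp1G1 ++ co3CertSlp1G2 from rfl]
    simp only [slpOK_append, Bool.and_eq_true]
    exact ⟨⟨co3_slp1_0, co3_slp1_1⟩, co3_slp1_2⟩
  have h2 : slpOK co3Cert.n co3Cert.w [co3Cert.x, co3Cert.h, co3Cert.s] co3Cert.slp2 = true := by
    rw [show co3Cert.slp2 = co3CertSlp2G0 ++ co3CertSlp2G1 ++ co3CertSlp2G2 ++ co3CertSlp2G3 ++ co3CertSlp2G4 ++ co3CertSlp2G5 ++ co3CertSlp2G6 ++ co3CertSlp2G7 ++ co3CertSlp2G8 from rfl]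
    simp only [slpOK_append, Bool.and_eq_true]
    exact ⟨⟨⟨⟨⟨⟨⟨⟨co3_slp2_0, co3_slp2_1⟩, co3_slp2_2⟩, co3_slp2_3⟩, co3_slp2_4⟩, co3_slp2_5⟩, co3_slp2_6⟩, co3_slp2_7⟩, co3_slp2_8⟩
  simp only [PermOut.Cert.slpsOK, Bool.and_eq_true]
  exact ⟨⟨⟨h.1, h1⟩, h.2⟩, h2⟩

end Cfsg.Agent.Lib.SporOut
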