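import Cfsg.Agent.Lib.SporOut.HSChecks
import Cfsg.Agent.Lib.Leech.SporIso

/-! # The outer automorphism group of the Higman–Sims group -/

set_option autoImplicit false

namespace Cfsg.Agent.Lib.SporOut

open Cfsg Cfsg.Agent.Lib.Leech Golay
open scoped Pointwise

theorem hs_out : Nat.card (Cfsg.Out ↥Cfsg.Spor.HS) = 2 := by
  haveI := hs_simple.1
  obtain ⟨φ, hφ, hmem⟩ := exists_orbit_rep (gs := RankOrb.hsGens) (T := RankOrb.hsPtTree)
    (start := RankOrb.fourFour) (n := hsCert.n) (w := hsCert.w) (perms := hsCertGens) hs_orbit_ok hs_perms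
    hs_nontrivial (pairStab fourNeg)
    (fun g hg => by
      rw [pairStab_fourNeg]
      exact gens_fix_pair fix_checks.1 (funext vec_eqs.1) (funext vec_eqs.2.1) (by rw [vFive_shape.1]; norm_num)
        (by rw [partner_facts.1]; norm_num) g hg)
    (funext vec_eqs.2.2) (by rw [rep_facts.1.1]; norm_num) (hsPts vFive fivePartner) hs_ncard rep_facts.1
    (fun k hk y hy => by
      rw [pairStab_fourNeg] at hk
      have h := (smul_hsPts (v := vFive) (w := fivePartner) k).2 hy
      rwa [MulAction.mem_stabilizer_iff.1 hk.1, MulAction.mem_stabilizer_iff.1 hk.2] at h)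
  let e : ↥Cfsg.Spor.HS ≃* ↥φ.range := hsEquiv.symm.trans (MonoidHom.ofInjective hφ)
  have hcard : Nat.card φ.range = 44352000 :=
    (Nat.card_congr (MonoidHom.ofInjective hφ).toEquiv).symm.trans hs_simple.2
  have h := PermOut.Cert.card_out (D := hsCert) (R := φ.range) hs_checks hmem (hcard ▸ hs_order)
    (show Nat.Prime 7 by norm_num) (by rw [hcard]; show ¬ 7 ^ 2 ∣ 44352000; norm_num)
  refine Eq.trans (Nat.card_congr (QuotientGroup.congr _ _ (MulAut.congr e) ?_).toEquiv) h
  ext α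
  constructor
  · rintro ⟨_, ⟨y, rfl⟩, rfl⟩
    exact ⟨e y, by ext x; simp⟩
  · rintro ⟨y, rfl⟩
    exact ⟨MulAut.conj (e.symm y), ⟨_, rfl⟩, by ext x; simp⟩

end Cfsg.Agent.Lib.SporOut
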