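import Cfsg.Agent.Lib.SporOut.McLData
import Cfsg.Agent.Lib.Leech.PtsPerm

/-! # Kernel checks of the representation for `McL` -/

set_option autoImplicit false
set_option maxRecDepth 1000000
set_option maxHeartbeats 0
set_option Elab.async false

namespace Cfsg.Agent.Lib.SporOut

open Cfsg.Agent.Lib.Leech Cfsg.Agent.Lib.PermOut

theorem mcl_perms : permsOK mclCert.n mclCert.w RankOrb.mcGens RankOrb.mcTree RankOrb.mcStart mclCertGens = true := by decide +kernel

theorem mcl_nontrivial :
    (mclCertGens.any fun q => (List.range mclCert.n).any fun i => im mclCert.w q i != i) = true := by decide +kernel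

theorem mcl_order : mclCert.orderOK 898128000 = true := by decide +kernel

end Cfsg.Agent.Lib.SporOut
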