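import Cfsg.Agent.Lib.SporOut.McLChecks
import Cfsg.Agent.Lib.SporOut.McLPerms
import Cfsg.Agent.Lib.Leech.SporIso

/-! # The outer automorphism group of the McLaughlin group -/

set_option autoImplicit false

namespace Cfsg.Agent.Lib.SporOut

open Cfsg Cfsg.Agent.Lib.Leech Golay
open scoped Pointwise

theorem mcl_out : Nat.card (Cfsg.Out ↥Cfsg.Spor.McL) = 2 := by
  haveI := mcl_simple.1
  obtain ⟨φ, hφ, hmem⟩ := exists_orbit_rep (gs := RankOrb.mcGens) (T := RankOrb.mcTree)
    (start := RankOrb.mcStart) (n := mclCert.n) (w := mclCert.w) (perms := mclCertGens) mc_orbit_ok mcl_perms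
    mcl_nontrivial (pairStab fourFour)
    (gens_fix_pair fix_checks.2.2.1 (funext vec_eqs.1) (funext vec_eqs.2.2) (by rw [vFive_shape.1]; norm_num)
      (by rw [rep_facts.1.1]; norm_num))
    (x := mcBase) rfl (by rw [rep_facts.2.2.2.1.1]; norm_num) (mcPts vFive fourFour) mc_ncard
    ((mc_mem_iff vFive_shape.1).2 rep_facts.2.2.2.1)
    (fun k hk y hy => by
      have h := (smul_mcPts (u := vFive) (v := fourFour) k).2 hy
      rwa [MulAction.mem_stabilizer_iff.1 hk.1, MulAction.mem_stabilizer_iff.1 hk.2] at h)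
  let e : ↥Cfsg.Spor.McL ≃* ↥φ.range := mclEquiv.symm.trans (MonoidHom.ofInjective hφ)
  have hcard : Nat.card φ.range = 898128000 :=
    (Nat.card_congr (MonoidHom.ofInjective hφ).toEquiv).symm.trans mcl_simple.2
  have h := PermOut.Cert.card_out (D := mclCert) (R := φ.range) mcl_checks hmem (hcard ▸ mcl_order)
    (show Nat.Prime 7 by norm_num) (by rw [hcard]; show ¬ 7 ^ 2 ∣ 898128000; norm_num)
  refine Eq.trans (Nat.card_congr (QuotientGroup.congr _ _ (MulAut.congr e) ?_).toEquiv) h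
  ext α
  constructor
  · rintro ⟨_, ⟨y, rfl⟩, rfl⟩
    exact ⟨e y, by ext x; simp⟩
  · rintro ⟨y, rfl⟩
    exact ⟨MulAut.conj (e.symm y), ⟨_, rfl⟩, by ext x; simp⟩

end Cfsg.Agent.Lib.SporOut
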