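import Cfsg.Agent.Lib.SporOut.McLData
import Cfsg.Agent.Lib.Leech.PtsPerm

/-! # Kernel checks of the certificate for `McL` -/

set_option autoImplicit false
set_option maxRecDepth 1000000
set_option maxHeartbeats 0
set_option Elab.async false

namespace Cfsg.Agent.Lib.SporOut

open Cfsg.Agent.Lib.Leech Cfsg.Agent.Lib.PermOut

theorem mcl_checks : mclCert.Checks where
  slps := by decide +kernel
  trans := by decide +kernel
  chainX := by decide +kernel
  chainY := by decide +kernel
  rel := by decide +kernel
  res := by decide +kernel
  planX := by decide +kernel
  planY := by decide +kernel
  searchX := by decide +kernel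
  searchY := by decide +kernel
  searchT := by decide +kernel
  move := by decide +kernel

end Cfsg.Agent.Lib.SporOut
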